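import Groth.Agent.Lib.EtFibre.Basic
import Groth.Prelude.Def_Flat
import Mathlib

/-!
# The fibre dimension read on an affine chart
-/

set_option autoImplicit false

universe u

open AlgebraicGeometry CategoryTheory Topology TopologicalSpace

namespace GrothLib.SmoothRank4

theorem localDim_isOpenEmbedding {X Y : Type u} [TopologicalSpace X] [TopologicalSpace Y] [QuasiSober X]
    [QuasiSober Y] [T0Space X] [T0Space Y] {f : X → Y} (hf : IsOpenEmbedding f) (x : X) :
    FlatMor.localDim Y (f x) = FlatMor.localDim X x :=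
  GrothLib.EtFibre.localDim_eq_of_isOpenMap hf.continuous hf.isOpenMap
    (fun a y hy => by
      obtain ⟨a', rfl⟩ := hy.mem_open hf.isOpen_range ⟨a, rfl⟩
      exact ⟨a', hf.isEmbedding.isInducing.specializes_iff.mp hy, rfl⟩) (fun _ _ _ h => hf.injective h) x

/-- The fibre dimension at a point of an affine chart is the local dimension of the fibre ring. -/
theorem fibreDimAt_chart {A R : Type u} [CommRing A] [CommRing R] [Algebra R A] {X S : Scheme.{u}} (f : X ⟶ S)
    (j : Spec (CommRingCat.of A) ⟶ X) [IsOpenImmersion j] (i : Spec (CommRingCat.of R) ⟶ S) [IsOpenImmersion i]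
    (h : j ≫ f = Spec.map (CommRingCat.ofHom (algebraMap R A)) ≫ i) (q : PrimeSpectrum A)
    (Q : PrimeSpectrum ((q.asIdeal.under R).Fiber A))
    (hQ : Q.asIdeal.comap (Algebra.TensorProduct.includeRight.toRingHom) = q.asIdeal) :
    FlatMor.fibreDimAt f (j q) = FlatMor.localDim (PrimeSpectrum ((q.asIdeal.under R).Fiber A)) Q := by
  let p₀ : PrimeSpectrum R := PrimeSpectrum.comap (algebraMap R A) q
  have hfj : ∀ z : PrimeSpectrum A, f (j z) = i (PrimeSpectrum.comap (algebraMap R A) z) := fun z => by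
    rw [← Scheme.Hom.comp_apply, h]
    rfl
  have hset : (PrimeSpectrum.comap (algebraMap R A) ⁻¹' {p₀} : Set (PrimeSpectrum A)) =
      j ⁻¹' (f ⁻¹' {f (j q)}) := by
    ext z
    exact ⟨fun hz => ((hfj z).trans (congrArg i hz)).trans (hfj q).symm,
      fun hz => i.isOpenEmbedding.injective ((hfj z).symm.trans ((hz : f (j z) = f (j q)).trans (hfj q)))⟩
  let e := (PrimeSpectrum.preimageHomeomorphFiber R A p₀).symm
  let e₁ := f.fiberHomeo (f (j q))
  let φ : PrimeSpectrum (p₀.asIdeal.Fiber A) → ↥(f.fiber (f (j q))) :=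
    e₁.symm ∘ ((f ⁻¹' {f (j q)}).restrictPreimage j) ∘ (Homeomorph.setCongr hset) ∘ e
  have hφ : IsOpenEmbedding φ :=
    e₁.symm.isOpenEmbedding.comp ((j.isOpenEmbedding.restrictPreimage _).comp
      ((Homeomorph.setCongr hset).isOpenEmbedding.comp e.isOpenEmbedding))
  have hφQ : φ Q = f.asFiber (j q) := by
    apply (f.fiberι _).isEmbedding.injective
    rw [f.fiberι_asFiber]
    have h1 : ∀ w, f.fiberι (f (j q)) (e₁.symm w) = w.1 := fun w =>
      congrArg Subtype.val (e₁.apply_symm_apply w)
    exact (h1 _).trans (congrArg j (PrimeSpectrum.ext hQ))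
  have h2 := localDim_isOpenEmbedding hφ Q
  rw [hφQ] at h2
  exact h2

theorem exists_fibre_point {R A : Type u} [CommRing R] [CommRing A] [Algebra R A] (q : PrimeSpectrum A) :
    ∃ Q : PrimeSpectrum ((q.asIdeal.under R).Fiber A),
      Q.asIdeal.comap (Algebra.TensorProduct.includeRight.toRingHom) = q.asIdeal := by
  let e := PrimeSpectrum.preimageHomeomorphFiber R A (PrimeSpectrum.comap (algebraMap R A) q)
  refine ⟨e ⟨q, rfl⟩, ?_⟩
  have : (e.symm (e ⟨q, rfl⟩)).1 = q := congrArg Subtype.val (e.symm_apply_apply _)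
  exact congrArg PrimeSpectrum.asIdeal this

end GrothLib.SmoothRank4
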