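import Groth.Agent.Lib.AlgMisc.SmoothRank
import Mathlib

/-!
# Smoothness at a prime through flatness and the differentials of the fibre
-/

set_option autoImplicit false
set_option maxSynthPendingDepth 3

universe u

open TensorProduct

namespace GrothLib.SmoothRank4

section

variable {R A : Type u} [CommRing R] [CommRing A] [Algebra R A]

attribute [local instance] Algebra.TensorProduct.rightAlgebra in
/-- The differentials of a fibre are the base change of the differentials. -/
noncomputable def kaehlerFiber (p : Ideal R) [p.IsPrime] :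
    (p.Fiber A) ⊗[A] Ω[A⁄R] ≃ₗ[p.Fiber A] Ω[p.Fiber A⁄p.ResidueField] :=
  KaehlerDifferential.tensorKaehlerEquiv R p.ResidueField A (p.Fiber A)

theorem finrank_residue_le (p : Ideal R) [p.IsPrime] {n : ℕ} (s : Fin n → Ω[A⁄R])
    (hs : Submodule.span A (Set.range s) = ⊤) (Q : Ideal (p.Fiber A)) [Q.IsPrime] :
    Module.finrank Q.ResidueField (Q.ResidueField ⊗[p.Fiber A] Ω[p.Fiber A⁄p.ResidueField]) ≤ n := by
  let F := p.Fiber A
  letI : Algebra A F := Algebra.TensorProduct.rightAlgebra
  let t : Fin n → Ω[F⁄p.ResidueField] := fun i => kaehlerFiber p ((1 : F) ⊗ₜ s i)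
  have ht : Submodule.span F (Set.range t) = ⊤ := by
    have h1 := Submodule.baseChange_span (R := A) (A := F) (Set.range s)
    rw [hs, Submodule.baseChange_top] at h1
    have h2 := congrArg (Submodule.map (kaehlerFiber (A := A) p).toLinearMap) h1
    rw [Submodule.map_top, LinearEquiv.range, Submodule.map_span] at h2
    rw [eq_top_iff]
    refine h2.le.trans (Submodule.span_le.mpr ?_)
    rintro _ ⟨_, ⟨_, ⟨i, rfl⟩, rfl⟩, rfl⟩
    exact Submodule.subset_span ⟨i, rfl⟩
  have h3 := Submodule.baseChange_span (R := F) (A := Q.ResidueField) (Set.range t)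
  rw [ht, Submodule.baseChange_top, ← Set.range_comp] at h3
  rw [← finrank_top Q.ResidueField (Q.ResidueField ⊗[F] Ω[F⁄p.ResidueField]), h3]
  refine (finrank_range_le_card (R := Q.ResidueField) _).trans ?_
  simp

attribute [local instance] Algebra.TensorProduct.rightAlgebra in
/-- A flat algebra is smooth at a point at which its fibre is smooth. -/
theorem isSmoothAt_of_fiber [Algebra.FinitePresentation R A] [Module.Flat R A] (p : Ideal R) [p.IsPrime]
    (q : Ideal A) [q.IsPrime] [q.LiesOver p] (Q : PrimeSpectrum (p.Fiber A))
    (hQ : Q.asIdeal.comap (Algebra.TensorProduct.includeRight.toRingHom) = q)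
    [Algebra.IsSmoothAt p.ResidueField Q.asIdeal] : Algebra.IsSmoothAt R q := by
  let F := p.Fiber A
  have hind : Topology.IsInducing (PrimeSpectrum.comap (algebraMap A F)) := by
    let p₀ : PrimeSpectrum R := ⟨p, inferInstance⟩
    let e := PrimeSpectrum.preimageHomeomorphFiber R A p₀
    have : PrimeSpectrum.comap (algebraMap A F) = Subtype.val ∘ e.symm := rfl
    rw [this]
    exact Topology.IsInducing.subtypeVal.comp e.symm.isInducing
  obtain ⟨O, hO, hOeq⟩ := hind.isOpen_iff.mp (Algebra.isOpen_smoothLocus (R := p.ResidueField) (A := F))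
  have hqO : (⟨q, inferInstance⟩ : PrimeSpectrum A) ∈ O := by
    have h1 : Q ∈ Algebra.smoothLocus p.ResidueField F := ‹Algebra.IsSmoothAt p.ResidueField Q.asIdeal›
    rw [← hOeq] at h1
    exact (PrimeSpectrum.ext hQ : PrimeSpectrum.comap (algebraMap A F) Q = ⟨q, inferInstance⟩) ▸ h1
  obtain ⟨_, ⟨g, rfl⟩, hgq, hgO⟩ :=
    PrimeSpectrum.isTopologicalBasis_basic_opens.exists_subset_of_mem_open hqO hO
  have hsub : (PrimeSpectrum.basicOpen (algebraMap A F g) : Set (PrimeSpectrum F)) ⊆
      Algebra.smoothLocus p.ResidueField F := by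
    rw [← hOeq]
    intro P hP
    exact hgO hP
  have : Algebra.FormallySmooth p.ResidueField (Localization.Away (algebraMap A F g)) :=
    (Algebra.basicOpen_subset_smoothLocus_iff).mp hsub
  let B := Localization.Away g
  have : IsLocalization ((Submonoid.powers g).map (Algebra.TensorProduct.includeRight (R := R) (A := p.ResidueField)))
      (Localization.Away (algebraMap A F g)) := by
    rw [Submonoid.map_powers]
    exact inferInstanceAs (IsLocalization.Away (algebraMap A F g) (Localization.Away (algebraMap A F g)))
  have : Algebra.FormallySmooth p.ResidueField (p.Fiber B) :=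
    Algebra.FormallySmooth.of_equiv (IsLocalization.tensorProductEquivOfMapIncludeRight R p.ResidueField
      (Submonoid.powers g) B (Localization.Away (algebraMap A F g))).symm
  have : Algebra.FinitePresentation A B := IsLocalization.Away.finitePresentation g
  have : Algebra.FinitePresentation R B := .trans R A B
  have : Module.Flat A B := IsLocalization.flat B (Submonoid.powers g)
  have : Module.Flat R B := Module.Flat.trans R A B
  have hdis : Disjoint (Submonoid.powers g : Set A) q :=
    (Ideal.disjoint_powers_iff_notMem_of_isPrime _).mpr hgq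
  let qB : Ideal B := q.map (algebraMap A B)
  have : qB.IsPrime := IsLocalization.isPrime_of_isPrime_disjoint (.powers g) _ _ inferInstance hdis
  have hcom : qB.comap (algebraMap A B) = q :=
    IsLocalization.comap_map_of_isPrime_disjoint (.powers g) _ inferInstance hdis
  have : qB.LiesOver p := ⟨by
    rw [Ideal.under_def, IsScalarTower.algebraMap_eq R A B, ← Ideal.comap_comap, hcom]
    exact Ideal.LiesOver.over⟩
  have := Algebra.IsSmoothAt.of_formallySmooth_fiber (R := R) p qB
  have : IsLocalization.AtPrime (Localization.AtPrime qB) q := by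
    have := IsLocalization.isLocalization_isLocalization_atPrime_isLocalization (Submonoid.powers g)
      (S := B) (Localization.AtPrime qB) qB
    simpa only [hcom] using this
  exact Algebra.FormallySmooth.of_equiv
    ((IsLocalization.algEquiv q.primeCompl (Localization.AtPrime q) (Localization.AtPrime qB)).restrictScalars R).symm

/-- A flat algebra whose differentials are generated by as many elements as the dimension of the fibre is smooth. -/
theorem isSmoothAt_of_span [Algebra.FinitePresentation R A] [Module.Flat R A] (p : Ideal R) [p.IsPrime]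
    (q : Ideal A) [q.IsPrime] [q.LiesOver p] (Q : PrimeSpectrum (p.Fiber A))
    (hQ : Q.asIdeal.comap (Algebra.TensorProduct.includeRight.toRingHom) = q) {n : ℕ} (s : Fin n → Ω[A⁄R])
    (hs : Submodule.span A (Set.range s) = ⊤)
    (hn : (n : WithBot ℕ∞) ≤ FlatMor.localDim (PrimeSpectrum (p.Fiber A)) Q) : Algebra.IsSmoothAt R q := by
  have := Groth.Agent.Lib.AlgMisc.SmoothRank.isSmoothAt_of_finrank_le (k := p.ResidueField) Q.asIdeal
    (le_trans (WithBot.coe_le_coe.mpr (Nat.cast_le.mpr (finrank_residue_le p s hs Q.asIdeal))) hn)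
  exact isSmoothAt_of_fiber p q Q hQ

attribute [local instance] Algebra.TensorProduct.rightAlgebra in
/-- The rank of the differentials of a smooth algebra is the local dimension of its fibres. -/
theorem localDim_fiber_eq_of_basis [Algebra.Smooth R A] (p : Ideal R) [p.IsPrime]
    (Q : PrimeSpectrum (p.Fiber A)) {n : ℕ} (b : Module.Basis (Fin n) A Ω[A⁄R]) :
    FlatMor.localDim (PrimeSpectrum (p.Fiber A)) Q = (n : WithBot ℕ∞) := by
  let F := p.Fiber A
  have : Algebra.Smooth p.ResidueField F := inferInstance
  have : Algebra.IsSmoothAt p.ResidueField Q.asIdeal :=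
    (Algebra.smoothLocus_eq_univ (R := p.ResidueField) (A := F)).ge (Set.mem_univ Q)
  rw [Groth.Agent.Lib.AlgMisc.SmoothRank.finrank_le_of_isSmoothAt (k := p.ResidueField) Q.asIdeal,
    Module.finrank_eq_card_basis
      (((b.baseChange F).map (kaehlerFiber (A := A) p)).baseChange Q.asIdeal.ResidueField)]
  simp

end

end GrothLib.SmoothRank4
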