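import Groth.Agent.Lib.SmoothRank4.Ring
import Groth.Agent.Lib.SmoothRank4.FibreDim
import Groth.Agent.Lib.OmegaLocal4.Affine
import Groth.Agent.Lib.FibreFlat.OpenScheme
import Groth.Agent.Lib.DCoh.LocFree
import Groth.Prelude.Def_FlatMod2
import Mathlib

/-!
# Smoothness on affine charts through the differentials and the fibre dimension
-/

set_option autoImplicit false
set_option linter.style.haveILetI false

universe u

open CategoryTheory CategoryTheory.Limits AlgebraicGeometry TopologicalSpace Opposite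

namespace GrothLib.SmoothRank4

set_option backward.isDefEq.respectTransparency false in
/-- Flat stalks on an affine chart give flat sections. -/
theorem flat_appLE_of_stalks {X Y : Scheme.{u}} (f : X ⟶ Y) {V : Y.Opens} (hV : IsAffineOpen V) {W : X.Opens}
    (hW : IsAffineOpen W) (e : W ≤ f ⁻¹ᵁ V) (h : ∀ x ∈ W, (f.stalkMap x).hom.Flat) :
    letI := (f.appLE V W e).hom.toAlgebra
    Module.Flat Γ(Y, V) Γ(X, W) := by
  letI : Algebra Γ(Y, V) Γ(X, W) := (f.appLE V W e).hom.toAlgebra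
  refine Module.flat_of_isLocalized_maximal Γ(X, W) Γ(X, W)
    (fun P _ => LocalizedModule P.primeCompl Γ(X, W)) (fun P _ => LocalizedModule.mkLinearMap _ _) fun P hP => ?_
  obtain ⟨w, hw⟩ : ∃ w : W, (hW.primeIdealOf w).asIdeal = P :=
    ⟨(Scheme.homeoOfIso hW.isoSpec).symm ⟨P, hP.isPrime⟩,
      congrArg PrimeSpectrum.asIdeal ((Scheme.homeoOfIso hW.isoSpec).apply_symm_apply ⟨P, hP.isPrime⟩)⟩
  subst hw
  let q := (hW.primeIdealOf w).asIdeal
  let p := (hV.primeIdealOf ⟨f w.1, e w.2⟩).asIdeal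
  have : q.LiesOver p :=
    ⟨congr($(IsAffineOpen.comap_primeIdealOf_appLE V hV W hW e w.2).1).symm⟩
  letI := Localization.AtPrime.algebraOfLiesOver p q
  rw [← GrothLib.FibreFlat.flat_localRingHom_iff q p, ← RingHom.flat_algebraMap_iff]
  exact (RingHom.Flat.respectsIso.arrow_mk_iso_iff
    (IsAffineOpen.arrowStalkMapIso f V hV W hW e w.2)).mp (h w.1 w.2)

/-- An isomorphism of modules is linear on sections. -/
noncomputable def sectionsEquivOfIso {X : Scheme.{u}} {M N : X.Modules} (i : M ≅ N) (W : X.Opens) :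
    Γ(M, W) ≃ₗ[Γ(X, W)] Γ(N, W) where
  toFun s := i.hom.app W s
  map_add' a b := map_add _ a b
  map_smul' r s := Scheme.Modules.Hom.app_smul i.hom r s
  invFun s := i.inv.app W s
  left_inv s := by
    change i.inv.app W (i.hom.app W s) = s
    rw [← ConcreteCategory.comp_apply, ← Scheme.Modules.Hom.comp_app, i.hom_inv_id]
    rfl
  right_inv s := by
    change i.hom.app W (i.inv.app W s) = s
    rw [← ConcreteCategory.comp_apply, ← Scheme.Modules.Hom.comp_app, i.inv_hom_id]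
    rfl

/-- The sections of a free module. -/
theorem nonempty_freeMod_sections {Y : Scheme.{u}} (n : ℕ) (V : Y.Opens) :
    Nonempty (Γ(FlatMod.freeMod Y n, V) ≃ₗ[Γ(Y, V)] (Fin n → Γ(Y, V))) := by
  classical
  let one : Γ(Coh.structureModule Y, V) := (1 : Γ(Y, V))
  let ι' : Fin n → (Coh.structureModule Y ⟶ FlatMod.freeMod Y n) :=
    fun k => Sigma.ι (fun _ : Fin n => Coh.structureModule Y) k
  let π' : Fin n → (FlatMod.freeMod Y n ⟶ Coh.structureModule Y) :=
    fun k => Sigma.desc (fun j => if j = k then 𝟙 _ else 0)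
  have hid : ∑ k, π' k ≫ ι' k = 𝟙 _ := by
    refine Sigma.hom_ext _ _ fun j => ?_
    rw [Preadditive.comp_sum, Category.comp_id, Finset.sum_eq_single j]
    · simp [π', ι']
    · intro k _ hk
      simp [π', ι', Ne.symm hk]
    · simp
  have hπι : ∀ j k, ι' j ≫ π' k = if j = k then 𝟙 _ else 0 := fun j k => by simp [π', ι']
  have hπι' : ∀ (j k : Fin n) (c : Γ(Y, V)),
      (π' k).app V ((ι' j).app V c) = if j = k then c else (0 : Γ(Y, V)) := by
    intro j k c
    rw [← ConcreteCategory.comp_apply, ← Scheme.Modules.Hom.comp_app, hπι]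
    split_ifs <;> rfl
  refine ⟨LinearEquiv.ofLinear
    (LinearMap.pi fun k =>
      { toFun := fun x => ((π' k).app V x : Γ(Y, V))
        map_add' := fun a b => map_add _ a b
        map_smul' := fun r s => Scheme.Modules.Hom.app_smul (π' k) r s })
    (Fintype.linearCombination Γ(Y, V) fun k => (ι' k).app V one) ?_ ?_⟩
  · refine LinearMap.ext fun c => funext fun k => ?_
    change ((π' k).app V (Fintype.linearCombination Γ(Y, V) (fun j => (ι' j).app V one) c) : Γ(Y, V)) = c k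
    rw [Fintype.linearCombination_apply, map_sum, Finset.sum_eq_single k]
    · rw [Scheme.Modules.Hom.app_smul, hπι']
      simp only [if_true]
      exact mul_one (c k : Γ(Y, V))
    · intro j _ hj
      rw [Scheme.Modules.Hom.app_smul, hπι', if_neg hj]
      exact mul_zero (c j : Γ(Y, V))
    · simp
  · refine LinearMap.ext fun x => ?_
    change Fintype.linearCombination Γ(Y, V) (fun j => (ι' j).app V one)
      (fun k => ((π' k).app V x : Γ(Y, V))) = x
    rw [Fintype.linearCombination_apply]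
    let E : (FlatMod.freeMod Y n ⟶ FlatMod.freeMod Y n) →+ Γ(FlatMod.freeMod Y n, V) :=
      { toFun := fun g => g.app V x
        map_zero' := by rfl
        map_add' := fun g g' => by rfl }
    conv_rhs => rw [← show E (𝟙 _) = x from rfl, ← hid, map_sum]
    refine Finset.sum_congr rfl fun k _ => ?_
    rw [← Scheme.Modules.Hom.app_smul]
    refine congrArg ((ι' k).app V) ?_
    exact mul_one (M := Γ(Y, V)) _

/-- Free differentials near a point give a basis of differentials on a chart. -/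
theorem exists_chart {X Y : Scheme.{u}} (f : X ⟶ Y) {Ω' : X.Modules} {d : OmegaSh.Der f Ω'}
    (hd : OmegaSh.IsUniversal d) {x : X} {U : X.Opens} {n : ℕ} (hxU : x ∈ U)
    (i : Ω'.restrict U.ι ≅ FlatMod.freeMod (↑U) n) (O : X.Opens) (hxO : x ∈ O) :
    ∃ (V : Y.Opens) (W : X.Opens) (e : W ≤ f ⁻¹ᵁ V), IsAffineOpen V ∧ IsAffineOpen W ∧ x ∈ W ∧ W ≤ O ∧
      letI := (f.appLE V W e).hom.toAlgebra
      Nonempty (Module.Basis (Fin n) Γ(X, W) (KaehlerDifferential Γ(Y, V) Γ(X, W))) := by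
  obtain ⟨V, hV, hxV, -⟩ := exists_isAffineOpen_mem_and_subset (show f x ∈ (⊤ : Y.Opens) from trivial)
  obtain ⟨W, hW, hxW, hWs⟩ := exists_isAffineOpen_mem_and_subset
    (show (⟨x, hxU⟩ : U) ∈ U.ι ⁻¹ᵁ (O ⊓ f ⁻¹ᵁ V) from ⟨hxO, hxV⟩)
  have hWO : U.ι ''ᵁ W ≤ O ⊓ f ⁻¹ᵁ V := by
    rintro _ ⟨w, hw, rfl⟩
    exact hWs hw
  have hA : IsAffineOpen (U.ι ''ᵁ W) := hW.image_of_isOpenImmersion U.ι
  refine ⟨V, U.ι ''ᵁ W, hWO.trans inf_le_right, hV, hA, ⟨⟨x, hxU⟩, hxW, rfl⟩, hWO.trans inf_le_left, ?_⟩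
  letI := (f.appLE V (U.ι ''ᵁ W) (hWO.trans inf_le_right)).hom.toAlgebra
  obtain ⟨k⟩ := GrothLib.OmegaLocal4.nonempty_sections hd hA hV (hWO.trans inf_le_right)
  obtain ⟨m⟩ := nonempty_freeMod_sections (Y := (U : Scheme.{u})) n W
  let l₀ := (sectionsEquivOfIso i W).trans m
  let l : Γ(Ω', U.ι ''ᵁ W) ≃ₗ[Γ(X, U.ι ''ᵁ W)] (Fin n → Γ(X, U.ι ''ᵁ W)) :=
    { toFun := fun s => l₀ s
      map_add' := fun a b => l₀.map_add a b
      map_smul' := fun r s => by
        have h : (((U.ι.appIso W).inv r • s : Γ(Ω', U.ι ''ᵁ W))) = r • s := by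
          rw [Scheme.Opens.ι_appIso]; rfl
        rw [← h]
        exact l₀.map_smul r s
      invFun := fun c => l₀.symm c
      left_inv := fun s => l₀.symm_apply_apply s
      right_inv := fun c => l₀.apply_symm_apply c }
  exact ⟨(Module.Basis.ofEquivFun (k.symm.trans l))⟩

end GrothLib.SmoothRank4

namespace GrothLib.SmoothRank4

/-- A sheaf of differentials of a formally smooth open piece is free near each of its points. -/
theorem exists_free_of_smoothLocus {X Y : Scheme.{u}} (f : X ⟶ Y) [LocallyOfFinitePresentation f] {Ω' : X.Modules}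
    {d : OmegaSh.Der f Ω'} (hd : OmegaSh.IsUniversal d) {x : X} (hx : x ∈ f.smoothLocus)
    (hfree : ∀ {X' : Scheme.{u}} (g : X' ⟶ Y) [Smooth g] [QuasiSeparated g], FlatMod.IsFinLocFree (Omega.sheaf g)) :
    ∃ (U : X.Opens) (n : ℕ), x ∈ U ∧ Nonempty (Ω'.restrict U.ι ≅ FlatMod.freeMod (↑U) n) := by
  obtain ⟨U₀, hU₀, hxU₀, hle⟩ := exists_isAffineOpen_mem_and_subset hx
  haveI : IsAffine (U₀ : Scheme.{u}) := hU₀
  haveI : QuasiSeparated (U₀.ι ≫ f) := inferInstance
  haveI hsm : Smooth (U₀.ι ≫ f) := by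
    rw [← Scheme.Hom.smoothLocus_eq_top_iff, ← Scheme.Hom.preimage_smoothLocus_eq, eq_top_iff]
    exact fun z _ => hle z.2
  have hd₂ : OmegaSh.IsUniversal (OmegaSh.dOmega (U₀.ι ≫ f)) := Groth.Agent.S5005.result _
  have hsq : U₀.ι ≫ f = (U₀.ι ≫ f) ≫ 𝟙 Y := (Category.comp_id _).symm
  obtain ⟨c, hc, -⟩ := GrothLib.OmegaLocal4.existsUnique_compat U₀.ι (𝟙 Y) hsq.symm d hd
    (OmegaSh.dOmega (U₀.ι ≫ f))
  haveI : IsIso c := PPGen.isIso_of_etale_square f (U₀.ι ≫ f) U₀.ι (𝟙 Y) hsq hd hd₂ c hc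
  obtain ⟨U', n, hxU', ⟨i⟩⟩ := DCoh.isFinLocFree_of_iso
    (((Scheme.Modules.restrictFunctorIsoPullback U₀.ι).app Ω' ≪≫ asIso c)).symm (hfree (U₀.ι ≫ f)) ⟨x, hxU₀⟩
  let U : X.Opens := U₀.ι ''ᵁ U'
  let e := U₀.ι.isoImage U'
  have he : U.ι = e.inv ≫ U'.ι ≫ U₀.ι := by
    rw [Iso.eq_inv_comp]
    exact U₀.ι.isoImage_hom_ι U'
  refine ⟨U, n, ⟨⟨x, hxU₀⟩, hxU', rfl⟩, ⟨(Scheme.Modules.restrictFunctorCongr he).app Ω' ≪≫
    (Scheme.Modules.restrictFunctorComp e.inv (U'.ι ≫ U₀.ι)).app Ω' ≪≫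
    (Scheme.Modules.restrictFunctor e.inv).mapIso
      ((Scheme.Modules.restrictFunctorComp U'.ι U₀.ι).app Ω' ≪≫ i) ≪≫ DCoh.restrictFreeModIso e.inv n⟩⟩

end GrothLib.SmoothRank4
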